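import Groth.Agent.S0543
import Groth.Agent.L27.HenselPair
import Groth.Agent.L27.Lefschetz.Main
import Groth.Agent.L04.LC.Change
import Groth.Agent.L05.Hensel.Perm
import Groth.Agent.L13.Purity.Compl

/-! Extension of finite étale covers of the punctured spectrum from a hypersurface. -/

set_option autoImplicit false
set_option linter.style.haveILetI false
set_option backward.isDefEq.respectTransparency.types false

universe u

open CategoryTheory CategoryTheory.Limits AlgebraicGeometry TensorProduct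

namespace Groth.L16.PuncExt

/-- Restrictions along the two composites of a square agree. -/
theorem nonempty_restrict_sq {P X Y Z : Scheme.{u}} (p : P ⟶ X) (a : X ⟶ Z) (q : P ⟶ Y) (b : Y ⟶ Z)
    (h : p ≫ a = q ≫ b) (V : FEt.Cat Z) :
    Nonempty ((FEt.restrict p).obj ((FEt.restrict a).obj V) ≅ (FEt.restrict q).obj ((FEt.restrict b).obj V)) :=
  ⟨((MorphismProperty.Over.pullbackComp (P := FEt.prop) (Q := ⊤) p a).app V).symm ≪≫
    (MorphismProperty.Over.pullbackCongr h).app V ≪≫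
    (MorphismProperty.Over.pullbackComp (P := FEt.prop) (Q := ⊤) q b).app V⟩

/-- Torsion of local cohomology of the ring passes to a flat local cover. -/
theorem exists_pow_killing {R R' : Type u} [CommRing R] [CommRing R'] [Algebra R R'] [Module.Flat R R']
    [IsNoetherianRing R] [IsNoetherianRing R'] (I : Ideal R) (f : R) (i : ℕ)
    (h : ∃ n : ℕ, ∀ x : LocCoh.H I i R, f ^ n • x = 0) :
    ∃ n : ℕ, ∀ x : LocCoh.H (I.map (algebraMap R R')) i R', algebraMap R R' f ^ n • x = 0 := by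
  obtain ⟨n, hn⟩ := h
  obtain ⟨φ⟩ := Groth.L04.LC.nonempty_H_baseChange_equiv (R' := R') I i R
  let J := I.map (algebraMap R R')
  let e : ModuleCat.of R' (R' ⊗[R] R) ≅ ModuleCat.of R' R' :=
    (TensorProduct.AlgebraTensorModule.rid R R' R').toModuleIso
  let E : LocCoh.H J i (R' ⊗[R] R) ≃ₗ[R'] LocCoh.H J i R' :=
    ((localCohomology J i).mapIso e).toLinearEquiv
  refine ⟨n, fun x => ?_⟩
  have key : ∀ z : R' ⊗[R] LocCoh.H I i R, algebraMap R R' f ^ n • z = 0 := by
    intro z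
    induction z using TensorProduct.induction_on with
    | zero => exact smul_zero _
    | add a b ha hb => rw [smul_add, ha, hb, add_zero]
    | tmul r y => rw [← map_pow, algebraMap_smul, ← TensorProduct.tmul_smul, hn, TensorProduct.tmul_zero]
  obtain ⟨y, rfl⟩ := E.surjective x
  obtain ⟨z, rfl⟩ := φ.surjective y
  rw [← LinearEquiv.map_smul, ← LinearEquiv.map_smul, key, map_zero, map_zero]

variable (A : Type u) [CommRing A] [IsNoetherianRing A] [IsLocalRing A] (f : A)

/-- The case of a henselian pair. -/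
theorem exists_extension_henselian (hf : f ∈ IsLocalRing.maximalIdeal A) [HenselianRing A (Ideal.span {f})]
    (h1 : ∃ n : ℕ, ∀ x : LocCoh.H (IsLocalRing.maximalIdeal A) 1 A, f ^ n • x = 0)
    (h2 : ∃ n : ℕ, ∀ x : LocCoh.H (IsLocalRing.maximalIdeal A) 2 A, f ^ n • x = 0)
    (V : FEt.Cat (FEt.puncturedSpec A : Scheme.{u})) (Y₀ : FEt.Cat (Spec (CommRingCat.of (A ⧸ Ideal.span {f}))))
    (e : (FEt.restrict (pullback.snd (FEt.puncturedSpec A).ι (Spec.map (CommRingCat.ofHom (Ideal.Quotient.mk (Ideal.span {f})))))).obj Y₀ ≅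
      (FEt.restrict (pullback.fst (FEt.puncturedSpec A).ι (Spec.map (CommRingCat.ofHom (Ideal.Quotient.mk (Ideal.span {f})))))).obj V) :
    ∃ Y : FEt.Cat (Spec (CommRingCat.of A)), Nonempty ((FEt.restrict (FEt.puncturedSpec A).ι).obj Y ≅ V) := by
  let q := Spec.map (CommRingCat.ofHom (Ideal.Quotient.mk (Ideal.span {f})))
  let ι := (FEt.puncturedSpec A).ι
  haveI := Groth.L27.HenselPair.isEquivalence_restrict (Ideal.span {f})
  obtain ⟨hfull, hfaith⟩ := Groth.L27.LefLocal.full_faithful A f hf h1 h2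
  let Y := (FEt.restrict q).objPreimage Y₀
  obtain ⟨c⟩ := nonempty_restrict_sq (pullback.fst ι q) ι (pullback.snd ι q) q pullback.condition Y
  haveI := hfull
  haveI := hfaith
  exact ⟨Y, ⟨(FEt.restrict (pullback.fst ι q)).preimageIso
    (c ≪≫ (FEt.restrict (pullback.snd ι q)).mapIso ((FEt.restrict q).objObjPreimageIso Y₀) ≪≫ e)⟩⟩

/-- The general case, by passage to the completion. -/
theorem exists_extension (hf : f ∈ IsLocalRing.maximalIdeal A)
    (h1 : ∃ n : ℕ, ∀ x : LocCoh.H (IsLocalRing.maximalIdeal A) 1 A, f ^ n • x = 0)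
    (h2 : ∃ n : ℕ, ∀ x : LocCoh.H (IsLocalRing.maximalIdeal A) 2 A, f ^ n • x = 0)
    (V : FEt.Cat (FEt.puncturedSpec A : Scheme.{u})) (Y₀ : FEt.Cat (Spec (CommRingCat.of (A ⧸ Ideal.span {f}))))
    (e : (FEt.restrict (pullback.snd (FEt.puncturedSpec A).ι (Spec.map (CommRingCat.ofHom (Ideal.Quotient.mk (Ideal.span {f})))))).obj Y₀ ≅
      (FEt.restrict (pullback.fst (FEt.puncturedSpec A).ι (Spec.map (CommRingCat.ofHom (Ideal.Quotient.mk (Ideal.span {f})))))).obj V) :
    ∃ Y : FEt.Cat (Spec (CommRingCat.of A)), Nonempty ((FEt.restrict (FEt.puncturedSpec A).ι).obj Y ≅ V) := by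
  let Ah := AdicCompletion (IsLocalRing.maximalIdeal A) A
  haveI : IsNoetherianRing Ah := Groth.Agent.S0543.result _ _
  haveI : Module.FaithfullyFlat A Ah := Module.FaithfullyFlat.of_flat_of_isLocalHom
  let f' : Ah := algebraMap A Ah f
  have hf' : f' ∈ IsLocalRing.maximalIdeal Ah := by
    rw [AdicCompletion.maximalIdeal_eq_map]
    exact Ideal.mem_map_of_mem _ hf
  haveI : IsAdicComplete (IsLocalRing.maximalIdeal Ah) Ah := inferInstance
  haveI : HenselianRing Ah (Ideal.span {f'}) :=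
    Groth.L05.henselianRing_mono (J := IsLocalRing.maximalIdeal Ah) ((Ideal.span_singleton_le_iff_mem _).2 hf')
  have h1' : ∃ n : ℕ, ∀ x : LocCoh.H (IsLocalRing.maximalIdeal Ah) 1 Ah, f' ^ n • x = 0 := by
    rw [AdicCompletion.maximalIdeal_eq_map]
    exact exists_pow_killing (R' := Ah) _ f 1 h1
  have h2' : ∃ n : ℕ, ∀ x : LocCoh.H (IsLocalRing.maximalIdeal Ah) 2 Ah, f' ^ n • x = 0 := by
    rw [AdicCompletion.maximalIdeal_eq_map]
    exact exists_pow_killing (R' := Ah) _ f 2 h2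
  let sp : Spec (CommRingCat.of Ah) ⟶ Spec (CommRingCat.of A) :=
    Spec.map (CommRingCat.ofHom (algebraMap A Ah))
  let U := FEt.puncturedSpec A
  let U' := FEt.puncturedSpec Ah
  have hpre : sp ⁻¹ᵁ U = U' := by
    ext z
    show sp z ≠ IsLocalRing.closedPoint A ↔ z ≠ IsLocalRing.closedPoint Ah
    refine not_congr ⟨fun h => PrimeSpectrum.ext ((IsLocalRing.maximalIdeal.isMaximal Ah).eq_of_le z.2.ne_top ?_).symm,
      fun h => h ▸ IsLocalRing.comap_closedPoint (algebraMap A Ah)⟩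
    rw [AdicCompletion.maximalIdeal_eq_map, Ideal.map_le_iff_le_comap]
    exact (congrArg PrimeSpectrum.asIdeal h).ge
  let g : U'.toScheme ⟶ U.toScheme := IsOpenImmersion.lift U.ι (U'.ι ≫ sp) (by
    rintro _ ⟨z, rfl⟩
    rw [Scheme.Opens.range_ι]
    show z.1 ∈ sp ⁻¹ᵁ U
    rw [hpre]
    exact z.2)
  have hg : g ≫ U.ι = U'.ι ≫ sp := IsOpenImmersion.lift_fac _ _ _
  let q := Spec.map (CommRingCat.ofHom (Ideal.Quotient.mk (Ideal.span {f})))
  let q' := Spec.map (CommRingCat.ofHom (Ideal.Quotient.mk (Ideal.span {f'})))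
  have hIJ : Ideal.span {f} ≤ (Ideal.span {f'}).comap (algebraMap A Ah) :=
    (Ideal.span_singleton_le_iff_mem _).2 (Ideal.mem_span_singleton_self _)
  let sp0 : Spec (CommRingCat.of (Ah ⧸ Ideal.span {f'})) ⟶ Spec (CommRingCat.of (A ⧸ Ideal.span {f})) :=
    Spec.map (CommRingCat.ofHom (Ideal.quotientMap (Ideal.span {f'}) (algebraMap A Ah) hIJ))
  have hsp0 : q' ≫ sp = sp0 ≫ q := by
    simp only [q', q, sp, sp0, ← Spec.map_comp, ← CommRingCat.ofHom_comp]
    rw [Ideal.quotientMap_comp_mk]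
  let π : pullback U'.ι q' ⟶ pullback U.ι q :=
    pullback.lift (pullback.fst U'.ι q' ≫ g) (pullback.snd U'.ι q' ≫ sp0) (by
      rw [Category.assoc, Category.assoc, hg, ← hsp0, pullback.condition_assoc])
  obtain ⟨c1⟩ := nonempty_restrict_sq (pullback.snd U'.ι q') sp0 π (pullback.snd U.ι q)
    (pullback.lift_snd _ _ _).symm Y₀
  obtain ⟨c2⟩ := nonempty_restrict_sq π (pullback.fst U.ι q) (pullback.fst U'.ι q') g
    (pullback.lift_fst _ _ _) V
  obtain ⟨Y', ⟨e'⟩⟩ := exists_extension_henselian Ah f' hf' h1' h2' ((FEt.restrict g).obj V)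
    ((FEt.restrict sp0).obj Y₀) (c1 ≪≫ (FEt.restrict π).mapIso e ≪≫ c2)
  let θ : pullback U.ι sp ⟶ U'.toScheme := IsOpenImmersion.lift U'.ι (pullback.snd U.ι sp) (by
    rintro _ ⟨z, rfl⟩
    rw [Scheme.Opens.range_ι, ← hpre]
    show sp (pullback.snd U.ι sp z) ∈ U
    rw [← Scheme.Hom.comp_apply, ← pullback.condition, Scheme.Hom.comp_apply]
    exact (pullback.fst U.ι sp z).2)
  have hθ : θ ≫ U'.ι = pullback.snd U.ι sp := IsOpenImmersion.lift_fac _ _ _
  have hθ' : θ ≫ g = pullback.fst U.ι sp := by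
    rw [← cancel_mono U.ι, Category.assoc, hg, ← Category.assoc, hθ, pullback.condition]
  obtain ⟨c3⟩ := nonempty_restrict_sq (pullback.snd U.ι sp) (𝟙 _) θ U'.ι
    (by rw [Category.comp_id, hθ]) Y'
  obtain ⟨c4⟩ := nonempty_restrict_sq θ g (pullback.fst U.ι sp) (𝟙 _)
    (by rw [Category.comp_id, hθ']) V
  have hid : ∀ {Z : Scheme.{u}} (W : FEt.Cat Z), Nonempty ((FEt.restrict (𝟙 Z)).obj W ≅ W) := fun {Z} W => by
    have hi : IsIso (pullback.fst W.hom (𝟙 Z)) := pullback_fst_iso_of_right_iso W.hom (𝟙 Z)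
    exact ⟨MorphismProperty.Over.isoMk (@asIso _ _ _ _ (pullback.fst W.hom (𝟙 Z)) hi)
      (pullback.condition.trans (Category.comp_id _))⟩
  obtain ⟨d1⟩ := hid Y'
  obtain ⟨d2⟩ := hid V
  exact Groth.L13.Purity.Compl.exists_extension A V Y'
    ((FEt.restrict (pullback.snd U.ι sp)).mapIso d1.symm ≪≫ c3 ≪≫ (FEt.restrict θ).mapIso e' ≪≫ c4 ≪≫
      (FEt.restrict (pullback.fst U.ι sp)).mapIso d2)

end Groth.L16.PuncExt
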